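import Cfsg.Agent.H371.OutTwo

/-!
# Automorphisms of `PSL_2(q)` of odd order (helper371)
-/

set_option autoImplicit false

namespace Cfsg.Agent.H371.OutTwo

open Matrix
open Cfsg.Agent.ClassicalGeometry.AutPSL.Root
open Cfsg.Agent.ClassicalGeometry.AutPSL.Auto
open Cfsg.Agent.ClassicalGeometry.AutPSL.Main

variable {F : Type*} [Field F]

local notation "SL2" => Matrix.SpecialLinearGroup (Fin 2) F
local notation "PSL2" => Matrix.ProjectiveSpecialLinearGroup (Fin 2) F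

theorem fld_cj (τ : F ≃+* F) (A : GL (Fin 2) F) : ∃ A' : GL (Fin 2) F, fld τ * cj A = cj A' * fld τ := by
  refine ⟨Matrix.GeneralLinearGroup.map (τ : F →+* F) A, ?_⟩
  apply MulEquiv.ext
  intro x
  apply Subtype.ext
  rw [MulAut.mul_apply, MulAut.mul_apply]
  have hmap : ∀ y : SL2, ((fld τ y : SL2) : Matrix (Fin 2) (Fin 2) F) =
      (y : Matrix (Fin 2) (Fin 2) F).map (τ : F → F) := by
    intro y
    ext i j
    rw [coe_fld_apply, Matrix.map_apply]
  rw [hmap, coe_cj, coe_cj, hmap, Matrix.map_mul, Matrix.map_mul]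
  rfl

theorem cj_fld_pow (A : GL (Fin 2) F) (σ : F ≃+* F) (k : ℕ) :
    ∃ B : GL (Fin 2) F, (cj A * fld σ) ^ k = cj B * fld (σ ^ k) := by
  induction k with
  | zero => exact ⟨1, by simp⟩
  | succ k ih =>
    obtain ⟨B, hB⟩ := ih
    obtain ⟨A', hA'⟩ := fld_cj (σ ^ k) A
    refine ⟨B * A', ?_⟩
    rw [pow_succ, hB, mul_assoc, ← mul_assoc (fld (σ ^ k)), hA', mul_assoc, ← map_mul,
      ← pow_succ, ← mul_assoc, ← map_mul]

/-- `conj` is injective -/
theorem conj_injective : Function.Injective (MulAut.conj : PSL2 →* MulAut PSL2) := by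
  rw [injective_iff_map_eq_one]
  intro y hy
  obtain ⟨x, rfl⟩ := pr_surjective y
  have h5 : lift (cj (toGL x) * fld (1 : F ≃+* F)) = 1 := by
    rw [map_one, mul_one, cj_toGL, lift_conj, hy]
  obtain ⟨⟨r, hr⟩, -⟩ := eq_one_of_lift h5
  rw [pr_eq_one_iff, Matrix.SpecialLinearGroup.mem_center_iff]
  refine ⟨r, ?_, hr⟩
  have h6 := x.2
  change (toGL x : Matrix (Fin 2) (Fin 2) F).det = 1 at h6
  rw [← hr, scalar_apply, det_diagonal, Finset.prod_const, Finset.card_univ] at h6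
  exact h6

/-- An automorphism of odd order: some power with exponent dividing `[F : F_p]` is inner. -/
theorem exists_inner_pow [Fintype F] {p g : ℕ} [hp : Fact p.Prime] [CharP F p] (hg : g ≠ 0)
    (hF : Fintype.card F = p ^ g) (α : MulAut PSL2) (hodd : Odd (orderOf α)) :
    ∃ j k : ℕ, orderOf α = j * k ∧ j ∣ g ∧ ∃ y : PSL2, orderOf y = k := by
  obtain ⟨A, σ, rfl⟩ := surj_two p α
  have hfin : Finite (F ≃+* F) := Finite.of_injective (fun σ => (σ : F → F)) DFunLike.coe_injective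
  set α := lift (cj A * fld σ) with hα
  set j := orderOf σ with hj
  have hjg : j ∣ g := by
    have h3 := orderOf_dvd_natCard σ
    rwa [Cfsg.Agent.Lib.FieldAutCard.card_ringAut (p := p) (Nat.one_le_iff_ne_zero.2 hg) hF] at h3
  have hjα : j ∣ orderOf α := by
    rw [hj]
    apply orderOf_dvd_of_pow_eq_one
    obtain ⟨B, hB⟩ := cj_fld_pow A σ (orderOf α)
    have h1 := pow_orderOf_eq_one α
    rw [hα, ← map_pow, ← hα, hB] at h1
    exact (eq_one_of_lift h1).2
  obtain ⟨k, hk⟩ := hjα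
  have hj0 : j ≠ 0 := (orderOf_pos σ).ne'
  have hko : orderOf (α ^ j) = k := by
    have hjα : j ∣ orderOf α := ⟨k, hk⟩
    rw [orderOf_pow_of_dvd hj0 hjα, hk, Nat.mul_div_cancel_left _ (Nat.pos_of_ne_zero hj0)]
  refine ⟨j, k, hk, hjg, ?_⟩
  obtain ⟨B, hB⟩ := cj_fld_pow A σ j
  have h1 : α ^ j = lift (cj B) := by
    rw [hα, ← map_pow, hB, hj, pow_orderOf_eq_one, map_one, mul_one]
  obtain ⟨b, hb⟩ : ∃ b : Fˣ, (b : F) = (B : Matrix (Fin 2) (Fin 2) F).det :=
    (Matrix.isUnit_iff_isUnit_det _).1 B.isUnit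
  obtain ⟨x, hx⟩ := exists_inner (A := (1 : GL (Fin 2) F)) (B := B * B) (s := b) (by
    rw [Units.val_mul, Matrix.det_mul, Units.val_one, Matrix.det_one, one_mul, ← hb]; ring)
  rw [map_one, map_one, mul_one, map_mul, map_mul, ← h1] at hx
  have hkodd : Odd k := by
    rw [hk] at hodd
    exact (Nat.odd_mul.1 hodd).2
  obtain ⟨c, hc⟩ := hkodd
  refine ⟨pr x ^ (c + 1), ?_⟩
  have h2 : MulAut.conj (pr x ^ (c + 1)) = α ^ j := by
    rw [map_pow, ← hx, ← pow_two, ← pow_mul]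
    have h3 : 2 * (c + 1) = k + 1 := by omega
    rw [h3, pow_succ, ← hko, pow_orderOf_eq_one, one_mul]
  rw [← orderOf_injective MulAut.conj conj_injective, h2, hko]

end Cfsg.Agent.H371.OutTwo
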