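import Cfsg.Agent.ClassicalGeometry.AutPSL.Main
import Cfsg.Agent.Lib.FieldAutCard
import Cfsg.Agent.H371.Basic

/-!
# Groups between `PSL_2(q)` and its automorphism group with the spectrum of `PSL_2(q)`, `q` odd (helper371)
-/

set_option autoImplicit false

namespace Cfsg.Agent.H371.OutTwo

open Matrix
open Cfsg.Agent.ClassicalGeometry.AutPSL.Root
open Cfsg.Agent.ClassicalGeometry.AutPSL.Auto
open Cfsg.Agent.ClassicalGeometry.AutPSL.Main

variable {F : Type*} [Field F]

local notation "SL2" => Matrix.SpecialLinearGroup (Fin 2) F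
local notation "PSL2" => Matrix.ProjectiveSpecialLinearGroup (Fin 2) F

/-- `diag(a, b)` in `GL_2`. -/
def D (a b : Fˣ) : GL (Fin 2) F :=
  ⟨diagonal ![(a : F), (b : F)], diagonal ![((a⁻¹ : Fˣ) : F), ((b⁻¹ : Fˣ) : F)], by
    rw [diagonal_mul_diagonal, ← diagonal_one]
    congr 1
    funext i
    fin_cases i <;> simp, by
    rw [diagonal_mul_diagonal, ← diagonal_one]
    congr 1
    funext i
    fin_cases i <;> simp⟩

theorem D_val (a b : Fˣ) : (D a b : Matrix (Fin 2) (Fin 2) F) = diagonal ![(a : F), (b : F)] := rfl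

theorem D_mul (a b c d : Fˣ) : D a b * D c d = D (a * c) (b * d) := by
  apply Units.ext
  rw [Units.val_mul, D_val, D_val, D_val, diagonal_mul_diagonal]
  congr 1
  funext i
  fin_cases i <;> simp

theorem D_one : D (1 : Fˣ) 1 = 1 := by
  apply Units.ext
  rw [D_val, Units.val_one, Units.val_one, ← diagonal_one]
  congr 1
  funext i
  fin_cases i <;> simp

theorem D_pow (a b : Fˣ) (k : ℕ) : D a b ^ k = D (a ^ k) (b ^ k) := by
  induction k with
  | zero => simp [D_one]
  | succ k ih => rw [pow_succ, ih, D_mul, pow_succ, pow_succ]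

theorem D_det (a b : Fˣ) : (D a b : Matrix (Fin 2) (Fin 2) F).det = a * b := by
  rw [D_val, det_diagonal, Fin.prod_univ_two]
  simp

theorem scalar_eq_D (a : Fˣ) : scalar (Fin 2) (a : F) = (D a a : Matrix (Fin 2) (Fin 2) F) := by
  rw [D_val, scalar_apply]
  congr 1
  funext i
  fin_cases i <;> simp

theorem cj_D_same (a : Fˣ) : cj (D a a) = 1 := cj_eq_one_of_scalar (scalar_eq_D a)

theorem D_scalar {a b : Fˣ} {r : F} (h : scalar (Fin 2) r = (D a b : Matrix (Fin 2) (Fin 2) F)) : a = b := by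
  have h0 := congrFun (congrFun h 0) 0
  have h1 := congrFun (congrFun h 1) 1
  rw [D_val] at h0 h1
  simp only [scalar_apply, diagonal_apply_eq, cons_val_zero, cons_val_one] at h0 h1
  apply Units.ext
  rw [← h0, ← h1]

/-- `cj D(a, b)` depends only on `a / b`. -/
theorem cj_D (a b : Fˣ) : cj (D a b) = cj (D (a * b⁻¹) 1) := by
  have h : D a b = D b b * D (a * b⁻¹) 1 := by
    rw [D_mul]
    congr 1
    · rw [mul_comm, inv_mul_cancel_right]
    · rw [mul_one]
  rw [h, map_mul, cj_D_same, one_mul]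

/-- `SL_2` elements as elements of `GL_2`. -/
def toGL (x : SL2) : GL (Fin 2) F := ⟨x.1, (x⁻¹).1, by
  rw [← Matrix.SpecialLinearGroup.coe_mul, mul_inv_cancel, Matrix.SpecialLinearGroup.coe_one], by
  rw [← Matrix.SpecialLinearGroup.coe_mul, inv_mul_cancel, Matrix.SpecialLinearGroup.coe_one]⟩

theorem toGL_val (x : SL2) : (toGL x : Matrix (Fin 2) (Fin 2) F) = x.1 := rfl

theorem cj_toGL (x : SL2) : cj (toGL x) = MulAut.conj x := by
  apply MulEquiv.ext
  intro g
  apply Subtype.ext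
  rw [coe_cj, MulAut.conj_apply, Matrix.SpecialLinearGroup.coe_mul, Matrix.SpecialLinearGroup.coe_mul]
  rfl

theorem lift_conj (x : SL2) : lift (MulAut.conj x) = MulAut.conj (pr x) := by
  apply MulEquiv.ext
  intro g
  obtain ⟨g, rfl⟩ := pr_surjective g
  rw [lift_pr, MulAut.conj_apply, MulAut.conj_apply, map_mul, map_mul, map_inv]

/-- `fld σ` and diagonal matrices. -/
theorem fld_cj_D (σ : F ≃+* F) (a b : Fˣ) :
    fld σ * cj (D a b) = cj (D (Units.map (σ : F →* F) a) (Units.map (σ : F →* F) b)) * fld σ := by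
  apply MulEquiv.ext
  intro g
  apply Subtype.ext
  ext i j
  rw [MulAut.mul_apply, MulAut.mul_apply, coe_fld_apply, coe_cj, coe_cj]
  have h1 : ∀ (c d : Fˣ) (X : Matrix (Fin 2) (Fin 2) F),
      ((D c d : Matrix (Fin 2) (Fin 2) F) * X * (((D c d)⁻¹ : GL (Fin 2) F) : Matrix (Fin 2) (Fin 2) F)) i j
        = (![(c : F), (d : F)] i) * X i j * (![((c⁻¹ : Fˣ) : F), ((d⁻¹ : Fˣ) : F)] j) := by
    intro c d X
    have h2 : (((D c d)⁻¹ : GL (Fin 2) F) : Matrix (Fin 2) (Fin 2) F)
      = diagonal ![((c⁻¹ : Fˣ) : F), ((d⁻¹ : Fˣ) : F)] := rfl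
    rw [h2, D_val, Matrix.mul_diagonal, Matrix.diagonal_mul]
  rw [h1, h1, map_mul, map_mul, coe_fld_apply]
  fin_cases i <;> fin_cases j <;> simp

/-- Changing the matrix by a matrix of square determinant is an inner automorphism. -/
theorem exists_inner {A B : GL (Fin 2) F} {s : Fˣ} (h : (B : Matrix (Fin 2) (Fin 2) F).det =
    (A : Matrix (Fin 2) (Fin 2) F).det * (s : F) ^ 2) :
    ∃ x : SL2, lift (cj B) = MulAut.conj (pr x) * lift (cj A) := by
  obtain ⟨C, hC⟩ : ∃ C : GL (Fin 2) F, C = D s⁻¹ s⁻¹ * (B * A⁻¹) := ⟨_, rfl⟩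
  have hdetA : (A : Matrix (Fin 2) (Fin 2) F).det * ((A⁻¹ : GL (Fin 2) F) : Matrix (Fin 2) (Fin 2) F).det = 1 := by
    rw [← Matrix.det_mul, ← Units.val_mul, mul_inv_cancel, Units.val_one, Matrix.det_one]
  have hs : ((s⁻¹ : Fˣ) : F) * (s : F) = 1 := by
    rw [← Units.val_mul, inv_mul_cancel, Units.val_one]
  have hdet : (C : Matrix (Fin 2) (Fin 2) F).det = 1 := by
    rw [hC, Units.val_mul, Units.val_mul, Matrix.det_mul, Matrix.det_mul, D_det, h]
    calc ((s⁻¹ : Fˣ) : F) * ((s⁻¹ : Fˣ) : F) * ((A : Matrix (Fin 2) (Fin 2) F).det * (s : F) ^ 2 *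
          ((A⁻¹ : GL (Fin 2) F) : Matrix (Fin 2) (Fin 2) F).det)
        = (((s⁻¹ : Fˣ) : F) * (s : F)) ^ 2 * ((A : Matrix (Fin 2) (Fin 2) F).det *
          ((A⁻¹ : GL (Fin 2) F) : Matrix (Fin 2) (Fin 2) F).det) := by ring
      _ = 1 := by rw [hs, hdetA]; ring
  obtain ⟨x, hx⟩ : ∃ x : SL2, toGL x = C := ⟨⟨C, hdet⟩, Units.ext rfl⟩
  refine ⟨x, ?_⟩
  have h2 : B = D s s * (C * A) := by
    rw [hC, ← mul_assoc, ← mul_assoc, D_mul, mul_inv_cancel, D_one, one_mul, inv_mul_cancel_right]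
  rw [← lift_conj, ← cj_toGL, hx, ← map_mul, ← map_mul, h2, map_mul cj (D s s), cj_D_same, one_mul]

section misc

theorem eq_one_of_lift {A : GL (Fin 2) F} {σ : F ≃+* F} (h : lift (cj A * fld σ) = 1) :
    (∃ r : F, scalar (Fin 2) r = (A : Matrix (Fin 2) (Fin 2) F)) ∧ σ = 1 :=
  injective_aux (τ := 1) (by rw [h, map_one, map_one])

theorem fld_eq_one {σ : F ≃+* F} (h : lift (fld σ : MulAut SL2) = 1) : σ = 1 :=
  (eq_one_of_lift (A := 1) (by rw [map_one, one_mul, h])).2

theorem fld_commute {σ : F ≃+* F} {x : SL2} (hx : fld σ x = x) :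
    Commute (lift (fld σ : MulAut SL2)) (MulAut.conj (pr x)) := by
  have h1 : Commute (fld σ : MulAut SL2) (MulAut.conj x) := by
    apply MulEquiv.ext
    intro y
    rw [MulAut.mul_apply, MulAut.mul_apply, MulAut.conj_apply, MulAut.conj_apply, map_mul, map_mul,
      map_inv, hx]
  have h2 := h1.map lift
  rwa [lift_conj] at h2

theorem orderOf_conj {x : SL2} {k : ℕ} (hk : k.Prime) (h1 : pr x ^ k = 1) (h2 : pr x ≠ 1) :
    orderOf (MulAut.conj (pr x)) = k := by
  have := Fact.mk hk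
  apply orderOf_eq_prime
  · rw [← map_pow, h1, map_one]
  · intro h3
    apply h2
    have h5 : lift (cj (toGL x) * fld (1 : F ≃+* F)) = 1 := by
      rw [map_one, mul_one, cj_toGL, lift_conj, h3]
    obtain ⟨⟨r, hr⟩, -⟩ := eq_one_of_lift h5
    rw [pr_eq_one_iff, Matrix.SpecialLinearGroup.mem_center_iff]
    refine ⟨r, ?_, hr⟩
    have h6 := x.2
    change (toGL x : Matrix (Fin 2) (Fin 2) F).det = 1 at h6
    rw [← hr, scalar_apply, det_diagonal, Finset.prod_const, Finset.card_univ] at h6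
    exact h6

/-- The transvection. -/
def u : SL2 := ⟨!![1, 1; 0, 1], by rw [Matrix.det_fin_two_of]; ring⟩

/-- The Weyl element. -/
def w : SL2 := ⟨!![0, 1; -1, 0], by rw [Matrix.det_fin_two_of]; ring⟩

theorem u_pow (k : ℕ) : ((u ^ k : SL2) : Matrix (Fin 2) (Fin 2) F) = !![1, (k : F); 0, 1] := by
  induction k with
  | zero => simp [Matrix.one_fin_two]
  | succ k ih =>
    rw [pow_succ, Matrix.SpecialLinearGroup.coe_mul, ih]
    change _ * !![1, 1; 0, 1] = _
    rw [Matrix.mul_fin_two]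
    simp [add_comm]

theorem pr_u_ne : pr (u : SL2) ≠ 1 := by
  intro h
  rw [pr_eq_one_iff, Matrix.SpecialLinearGroup.mem_center_iff] at h
  obtain ⟨r, -, hr⟩ := h
  have h1 := congrFun (congrFun hr 0) 1
  change (scalar (Fin 2)) r 0 1 = (!![1, 1; 0, 1] : Matrix (Fin 2) (Fin 2) F) 0 1 at h1
  simp [scalar_apply] at h1

theorem pr_w_ne : pr (w : SL2) ≠ 1 := by
  intro h
  rw [pr_eq_one_iff, Matrix.SpecialLinearGroup.mem_center_iff] at h
  obtain ⟨r, -, hr⟩ := h
  have h1 := congrFun (congrFun hr 0) 1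
  change (scalar (Fin 2)) r 0 1 = (!![0, 1; -1, 0] : Matrix (Fin 2) (Fin 2) F) 0 1 at h1
  simp [scalar_apply] at h1

theorem pr_u_pow {p : ℕ} [CharP F p] : pr (u : SL2) ^ p = 1 := by
  rw [← map_pow]
  have : (u : SL2) ^ p = 1 := by
    apply Subtype.ext
    change ((u ^ p : SL2) : Matrix (Fin 2) (Fin 2) F) = 1
    rw [u_pow, CharP.cast_eq_zero, Matrix.one_fin_two]
  rw [this, map_one]

theorem w_sq : ((w * w : SL2) : Matrix (Fin 2) (Fin 2) F) = scalar (Fin 2) (-1 : F) := by
  rw [Matrix.SpecialLinearGroup.coe_mul]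
  change (!![0, 1; -1, 0] : Matrix (Fin 2) (Fin 2) F) * !![0, 1; -1, 0] = _
  rw [Matrix.mul_fin_two]
  ext i j
  fin_cases i <;> fin_cases j <;> simp [scalar_apply]

theorem pr_w_pow : pr (w : SL2) ^ 2 = 1 := by
  rw [← map_pow, pr_eq_one_iff, Matrix.SpecialLinearGroup.mem_center_iff, pow_two]
  exact ⟨-1, by simp, w_sq.symm⟩

theorem fld_u (σ : F ≃+* F) : fld σ (u : SL2) = u := by
  apply Subtype.ext
  ext i j
  rw [coe_fld_apply]
  change σ ((!![1, 1; 0, 1] : Matrix (Fin 2) (Fin 2) F) i j) = (!![1, 1; 0, 1] : Matrix (Fin 2) (Fin 2) F) i j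
  fin_cases i <;> fin_cases j <;> simp

theorem fld_w (σ : F ≃+* F) : fld σ (w : SL2) = w := by
  apply Subtype.ext
  ext i j
  rw [coe_fld_apply]
  change σ ((!![0, 1; -1, 0] : Matrix (Fin 2) (Fin 2) F) i j) = (!![0, 1; -1, 0] : Matrix (Fin 2) (Fin 2) F) i j
  fin_cases i <;> fin_cases j <;> simp

/-- order of a square root of an element of even order -/
theorem orderOf_of_sq {G : Type*} [Group G] [Finite G] {α : G} (h : ∀ k, α ^ k = 1 → 2 ∣ k) :
    orderOf α = 2 * orderOf (α ^ 2) := by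
  have h2 : 2 ∣ orderOf α := h _ (pow_orderOf_eq_one α)
  rw [orderOf_pow_of_dvd (by norm_num) h2, Nat.mul_div_cancel' h2]

/-- order of `cj D(a, 1)` -/
theorem orderOf_lift_cj (a : Fˣ) : orderOf (lift (cj (D a 1)) : MulAut PSL2) = orderOf a := by
  apply Nat.dvd_antisymm
  · apply orderOf_dvd_of_pow_eq_one
    rw [← map_pow, ← map_pow, D_pow, pow_orderOf_eq_one, one_pow, D_one, map_one, map_one]
  · apply orderOf_dvd_of_pow_eq_one
    have h := pow_orderOf_eq_one (lift (cj (D a 1)) : MulAut PSL2)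
    rw [← map_pow, ← map_pow, D_pow] at h
    have h' : lift (cj (D (a ^ orderOf (lift (cj (D a 1)) : MulAut PSL2))
        (1 ^ orderOf (lift (cj (D a 1)) : MulAut PSL2))) * fld (1 : F ≃+* F)) = 1 := by
      rw [map_one fld, mul_one, h]
    obtain ⟨⟨r, hr⟩, -⟩ := eq_one_of_lift h'
    have := D_scalar hr
    rw [this, one_pow]

end misc

section fin
variable [Fintype F]

/-- the main statement, for `q` odd -/
theorem inner_of_spec {p : ℕ} [hp : Fact p.Prime] [CharP F p] (hp2 : p ≠ 2) {q : ℕ}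
    (hFq : Fintype.card F = q) (hq : 4 < q)
    (Γ : Subgroup (MulAut PSL2)) (hInn : ∀ x : PSL2, MulAut.conj x ∈ Γ)
    (hspec : ∀ α ∈ Γ, orderOf α ∣ p ∨ orderOf α ∣ (q - 1) / 2 ∨ orderOf α ∣ (q + 1) / 2) :
    ∀ α ∈ Γ, ∃ x : PSL2, α = MulAut.conj x := by
  classical
  -- arithmetic of q
  obtain ⟨f, hfp, hf⟩ := FiniteField.card F p
  rw [hFq] at hf
  have hf0 : (f : ℕ) ≠ 0 := f.ne_zero
  have hpq : p ∣ q := by rw [hf]; exact dvd_pow_self p hf0
  have hoddp : p % 2 = 1 := by
    rcases hp.out.eq_two_or_odd with h | h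
    · exact absurd h hp2
    · exact h
  have hoddq : q % 2 = 1 := by
    rw [hf, Nat.pow_mod, hoddp, one_pow]
    rfl
  have hp1 := hp.out.one_lt
  have hp_sub : ¬ p ∣ q - 1 := by
    intro h
    have h1 : p ∣ q - (q - 1) := Nat.dvd_sub hpq h
    rw [Nat.sub_sub_self (by omega)] at h1
    exact hp1.ne' (Nat.dvd_one.1 h1)
  have hp_add : ¬ p ∣ q + 1 := by
    intro h
    have h1 := (Nat.dvd_add_right hpq).1 h
    exact hp1.ne' (Nat.dvd_one.1 h1)
  have hp_sub' : ¬ p ∣ (q - 1) / 2 := fun h => hp_sub (h.trans (Nat.div_dvd_of_dvd (by omega)))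
  have hp_add' : ¬ p ∣ (q + 1) / 2 := fun h => hp_add (h.trans (Nat.div_dvd_of_dvd (by omega)))
  -- a generator
  obtain ⟨g, hg⟩ := IsCyclic.exists_generator (α := Fˣ)
  have hgo : orderOf g = q - 1 := by
    rw [orderOf_eq_card_of_forall_mem_zpowers hg, Nat.card_units, Nat.card_eq_fintype_card, hFq]
  have hgns : ∀ s : Fˣ, g ≠ s ^ 2 := by
    intro s hs
    obtain ⟨k, hk⟩ := Subgroup.mem_zpowers_iff.1 (hg s)
    have h1 : g ^ (k * 2 - 1) = 1 := by
      have h0 : g ^ (k * 2) = g := by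
        rw [_root_.zpow_mul, hk, _root_.zpow_ofNat]
        exact hs.symm
      rw [_root_.zpow_sub, h0, zpow_one, mul_inv_cancel]
    rw [← orderOf_dvd_iff_zpow_eq_one, hgo] at h1
    have h2 : (2 : ℤ) ∣ ((q - 1 : ℕ) : ℤ) := by omega
    have h3 := h2.trans h1
    omega
  have hdich : ∀ a : Fˣ, (∃ s : Fˣ, a = s ^ 2) ∨ ∃ s : Fˣ, g = a * s ^ 2 := by
    intro a
    obtain ⟨k, hk⟩ := Subgroup.mem_zpowers_iff.1 (hg a)
    rcases Int.even_or_odd' k with ⟨j, hj | hj⟩
    · left
      exact ⟨g ^ j, by rw [← hk, hj, mul_comm, _root_.zpow_mul, _root_.zpow_ofNat]⟩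
    · right
      refine ⟨g ^ (-j), ?_⟩
      rw [← hk, hj, ← _root_.zpow_natCast, ← _root_.zpow_mul, ← _root_.zpow_add]
      have : (2 * j + 1 + -j * ((2 : ℕ) : ℤ)) = 1 := by push_cast; ring
      rw [this, zpow_one]
  -- membership
  have hmem : ∀ (A B : GL (Fin 2) F) (σ : F ≃+* F) (s : Fˣ), lift (cj A * fld σ) ∈ Γ →
      (B : Matrix (Fin 2) (Fin 2) F).det = (A : Matrix (Fin 2) (Fin 2) F).det * (s : F) ^ 2 →
      lift (cj B * fld σ) ∈ Γ := by
    intro A B σ s h hdet
    obtain ⟨x, hx⟩ := exists_inner hdet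
    rw [map_mul, hx, mul_assoc, ← map_mul]
    exact Γ.mul_mem (hInn _) h
  have hred : ∀ (A : GL (Fin 2) F) (σ : F ≃+* F), lift (cj A * fld σ) ∈ Γ →
      (lift (fld σ : MulAut SL2) ∈ Γ ∧ ∃ x : PSL2, lift (cj A) = MulAut.conj x) ∨
      lift (cj (D g 1) * fld σ) ∈ Γ := by
    intro A σ h
    obtain ⟨a, ha⟩ : ∃ a : Fˣ, (a : F) = (A : Matrix (Fin 2) (Fin 2) F).det :=
      (Matrix.isUnit_iff_isUnit_det _).1 A.isUnit
    rcases hdich a with ⟨s, hs⟩ | ⟨s, hs⟩
    · left
      constructor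
      · have h1 := hmem A (D 1 1) σ s⁻¹ h (by
          rw [D_det, ← ha, hs, ← Units.val_pow_eq_pow_val, ← Units.val_mul, ← Units.val_mul,
            inv_pow, mul_inv_cancel, one_mul])
        rwa [D_one, map_one, one_mul] at h1
      · obtain ⟨x, hx⟩ := exists_inner (A := (1 : GL (Fin 2) F)) (B := A) (s := s) (by
          rw [Units.val_one, Matrix.det_one, one_mul, ← ha, hs, Units.val_pow_eq_pow_val])
        rw [map_one, map_one, mul_one] at hx
        exact ⟨_, hx⟩
    · right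
      apply hmem A (D g 1) σ s h
      rw [D_det, ← ha, Units.val_one, mul_one, ← Units.val_pow_eq_pow_val, ← Units.val_mul, ← hs]
  have : Finite (F ≃+* F) := Finite.of_injective (fun σ => (σ : F → F)) DFunLike.coe_injective
  -- (i)
  have hi : ∀ σ : F ≃+* F, lift (fld σ : MulAut SL2) ∈ Γ → σ = 1 := by
    intro σ hσ
    by_contra hne
    obtain ⟨r, hr, hrσ⟩ := Nat.exists_prime_and_dvd (n := orderOf σ)
      (by rw [Ne, orderOf_eq_one_iff]; exact hne)
    obtain ⟨k, hk⟩ := hrσ
    have hpos : 0 < orderOf σ := orderOf_pos σ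
    have hk0 : k ≠ 0 := by rintro rfl; rw [mul_zero] at hk; omega
    have hτ : orderOf (σ ^ k) = r := by
      rw [orderOf_pow_of_dvd hk0 (by rw [hk]; exact Dvd.intro_left _ rfl), hk,
        Nat.mul_div_cancel _ (Nat.pos_of_ne_zero hk0)]
    have hτm : lift (fld (σ ^ k) : MulAut SL2) ∈ Γ := by
      rw [map_pow, map_pow]
      exact Γ.pow_mem hσ k
    have hτo : orderOf (lift (fld (σ ^ k) : MulAut SL2)) = r := by
      have := Fact.mk hr
      apply orderOf_eq_prime
      · rw [← map_pow, ← map_pow, ← hτ, pow_orderOf_eq_one, map_one, map_one]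
      · intro h
        have h1 := fld_eq_one h
        rw [h1, orderOf_one] at hτ
        exact hr.one_lt.ne hτ
    by_cases hrp : r = p
    · -- an involution
      have hc := fld_commute (fld_w (σ ^ k))
      have ho := orderOf_conj (x := (w : SL2)) Nat.prime_two pr_w_pow pr_w_ne
      have h1 : orderOf (lift (fld (σ ^ k) : MulAut SL2) * MulAut.conj (pr (w : SL2))) = p * 2 := by
        rw [hc.orderOf_mul_eq_mul_orderOf_of_coprime, hτo, ho, hrp]
        rw [hτo, ho, hrp]
        exact (Nat.coprime_primes hp.out Nat.prime_two).2 hp2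
      have h2 := hspec _ (Γ.mul_mem hτm (hInn (pr (w : SL2))))
      rw [h1] at h2
      rcases h2 with h2 | h2 | h2
      · have := Nat.le_of_dvd (by omega) h2
        omega
      · exact hp_sub' ((Dvd.intro _ rfl).trans h2)
      · exact hp_add' ((Dvd.intro _ rfl).trans h2)
    · have hc := fld_commute (fld_u (σ ^ k))
      have ho := orderOf_conj (x := (u : SL2)) hp.out pr_u_pow pr_u_ne
      have h1 : orderOf (lift (fld (σ ^ k) : MulAut SL2) * MulAut.conj (pr (u : SL2))) = r * p := by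
        rw [hc.orderOf_mul_eq_mul_orderOf_of_coprime, hτo, ho]
        rw [hτo, ho]
        exact (Nat.coprime_primes hr hp.out).2 hrp
      have h2 := hspec _ (Γ.mul_mem hτm (hInn (pr (u : SL2))))
      rw [h1] at h2
      rcases h2 with h2 | h2 | h2
      · have := Nat.le_of_dvd (by omega) h2
        have := hr.two_le
        nlinarith
      · exact hp_sub' ((Dvd.intro_left _ rfl).trans h2)
      · exact hp_add' ((Dvd.intro_left _ rfl).trans h2)
  -- (ii)
  have hii : ∀ σ : F ≃+* F, ¬ lift (cj (D g 1) * fld σ) ∈ Γ := by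
    intro σ h
    -- the square
    obtain ⟨g', hg'⟩ : ∃ g' : Fˣ, g' = Units.map (σ : F →* F) g := ⟨_, rfl⟩
    have hsq : ∀ σ' : F ≃+* F, (cj (D g 1) * fld σ') * (cj (D g 1) * fld σ')
        = cj (D (g * Units.map (σ' : F →* F) g) 1) * fld (σ' * σ') := by
      intro σ'
      rw [mul_assoc, ← mul_assoc (fld σ'), fld_cj_D, map_one, ← mul_assoc, ← mul_assoc, ← map_mul,
        D_mul, one_mul, mul_assoc, ← map_mul]
    have h1 : lift (cj (D (g * g') 1) * fld (σ * σ)) ∈ Γ := by
      rw [hg', ← hsq, map_mul]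
      exact Γ.mul_mem h h
    have hg'ns : ∀ s : Fˣ, g' ≠ s ^ 2 := by
      intro s hs
      apply hgns (Units.map (σ.symm : F →* F) s)
      rw [← map_pow, ← hs, hg']
      apply Units.ext
      simp
    obtain ⟨s, hs⟩ : ∃ s : Fˣ, g * g' = s ^ 2 := by
      rcases hdich g' with ⟨s, hs⟩ | ⟨s, hs⟩
      · exact absurd hs (hg'ns s)
      · exact ⟨g' * s, by rw [hs]; simp only [pow_two]; ac_rfl⟩
    have h2 : lift (fld (σ * σ) : MulAut SL2) ∈ Γ := by
      have h3 := hmem _ (D 1 1) (σ * σ) s⁻¹ h1 (by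
        rw [D_det, D_det, hs, ← Units.val_pow_eq_pow_val, ← Units.val_mul, ← Units.val_mul,
          ← Units.val_mul, mul_one, mul_one, inv_pow, mul_inv_cancel])
      rwa [D_one, map_one, one_mul] at h3
    have hσ2 : σ * σ = 1 := hi _ h2
    by_cases hσ1 : σ = 1
    · rw [hσ1, map_one, mul_one] at h
      have h3 := hspec _ h
      rw [orderOf_lift_cj, hgo] at h3
      rcases h3 with h3 | h3 | h3
      · rcases (Nat.dvd_prime hp.out).1 h3 with h4 | h4
        · omega
        · exact hp_sub (h4 ▸ dvd_rfl)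
      · have := Nat.le_of_dvd (by omega) h3
        omega
      · have := Nat.le_of_dvd (by omega) h3
        omega
    -- `q ≡ 1` mod 4
    have hσo : orderOf σ = 2 := orderOf_eq_prime (by rw [pow_two, hσ2]) hσ1
    have hf2 : 2 ∣ (f : ℕ) := by
      have h3 := orderOf_dvd_natCard σ
      rw [hσo, Cfsg.Agent.Lib.FieldAutCard.card_ringAut (p := p) (Nat.one_le_iff_ne_zero.2 hf0)
        (by rw [hFq, hf])] at h3
      exact h3
    have hq4 : q % 4 = 1 := by
      obtain ⟨m, hm⟩ := hf2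
      have h3 : (p ^ 2) % 4 = 1 := by
        rw [Nat.pow_mod]
        have : p % 4 = 1 ∨ p % 4 = 3 := by omega
        rcases this with h | h <;> rw [h]
      rw [hf, hm, pow_mul, Nat.pow_mod, h3, one_pow]
      rfl
    -- exponent
    obtain ⟨k, hk⟩ := (Submonoid.mem_powers_iff g' g).1 (by
      rw [mem_powers_iff_mem_zpowers]; exact hg g')
    have heven : ∀ α : MulAut PSL2, (∃ A : GL (Fin 2) F, α = lift (cj A * fld σ)) → ∀ k : ℕ, α ^ k = 1 → 2 ∣ k := by
      rintro α ⟨A, rfl⟩ k hk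
      have key : ∀ k : ℕ, ∃ B : GL (Fin 2) F, (cj A * fld σ) ^ k = cj B * fld (σ ^ k) := by
        intro k
        induction k with
        | zero => exact ⟨1, by simp⟩
        | succ k ih =>
          obtain ⟨B, hB⟩ := ih
          -- fld commutes with cj up to change of matrix
          have hcomm : ∀ (τ : F ≃+* F) (A : GL (Fin 2) F), ∃ A' : GL (Fin 2) F,
              fld τ * cj A = cj A' * fld τ := by
            intro τ A
            refine ⟨Matrix.GeneralLinearGroup.map (τ : F →+* F) A, ?_⟩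
            apply MulEquiv.ext
            intro x
            apply Subtype.ext
            rw [MulAut.mul_apply, MulAut.mul_apply]
            have hmap : ∀ y : SL2, ((fld τ y : SL2) : Matrix (Fin 2) (Fin 2) F) =
                (y : Matrix (Fin 2) (Fin 2) F).map (τ : F → F) := by
              intro y
              ext i j
              rw [coe_fld_apply, Matrix.map_apply]
            rw [hmap, coe_cj, coe_cj, hmap, Matrix.map_mul, Matrix.map_mul]
            rfl
          obtain ⟨A', hA'⟩ := hcomm (σ ^ k) A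
          refine ⟨B * A', ?_⟩
          rw [pow_succ, hB, mul_assoc, ← mul_assoc (fld (σ ^ k)), hA', mul_assoc, ← map_mul,
            ← pow_succ, ← mul_assoc, ← map_mul]
      obtain ⟨B, hB⟩ := key k
      rw [← map_pow, hB] at hk
      have h3 := (eq_one_of_lift hk).2
      rw [← hσo]
      exact orderOf_dvd_of_pow_eq_one h3
    have hfin : ∀ α ∈ Γ, ∀ m : ℕ, (∃ A : GL (Fin 2) F, α = lift (cj A * fld σ)) → α ^ 2 = lift (cj (D (g ^ m) 1)) →
        4 ∣ m := by
      intro α hα m hA h2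
      have h3 := orderOf_of_sq (heven α hA)
      rw [h2, orderOf_lift_cj] at h3
      have h4 := hspec α hα
      have h5 : 2 * orderOf (g ^ m) ∣ (q - 1) / 2 := by
        rw [← h3]
        rcases h4 with h4 | h4 | h4
        · exfalso
          rw [h3] at h4
          have : 2 ∣ p := (Dvd.intro _ rfl).trans h4
          omega
        · exact h4
        · exfalso
          rw [h3] at h4
          have : 2 ∣ (q + 1) / 2 := (Dvd.intro _ rfl).trans h4
          omega
      -- g ^ (m * (q-1)/4) = 1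
      obtain ⟨c, hc⟩ := h5
      have h6 : g ^ (m * (orderOf (g ^ m) * c)) = 1 := by
        rw [pow_mul, pow_mul, pow_orderOf_eq_one, one_pow]
      have h7 := orderOf_dvd_of_pow_eq_one h6
      rw [hgo] at h7
      have h8 : q - 1 = 4 * (orderOf (g ^ m) * c) := by
        have : q - 1 = 2 * ((q - 1) / 2) := by omega
        rw [this, hc]; ring
      have h9 : 0 < orderOf (g ^ m) * c := by
        rcases Nat.eq_zero_or_pos (orderOf (g ^ m) * c) with h0 | h0
        · rw [h0] at h8; omega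
        · exact h0
      rw [h8] at h7
      exact Nat.dvd_of_mul_dvd_mul_right h9 h7
    have hA1 : 4 ∣ k + 1 := by
      apply hfin _ h (k + 1) ⟨_, rfl⟩
      rw [pow_two, ← map_mul, hsq, ← hg', ← hk, hσ2, map_one, mul_one, ← pow_succ']
    -- the other element
    have hB1 : 4 ∣ k + (q - 1) - 1 := by
      have h3 : lift (cj (toGL w * D g 1) * fld σ) ∈ Γ := by
        apply hmem (D g 1) _ σ 1 h
        rw [Units.val_mul, Matrix.det_mul, toGL_val, Units.val_one, one_pow, mul_one]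
        have : ((w : SL2) : Matrix (Fin 2) (Fin 2) F).det = 1 := (w : SL2).2
        rw [this, one_mul]
      apply hfin _ h3 (k + (q - 1) - 1) ⟨_, rfl⟩
      rw [pow_two, ← map_mul]
      congr 1
      have hfw : fld σ * cj (toGL w) = cj (toGL w) * fld σ := by
        rw [cj_toGL]
        apply MulEquiv.ext
        intro y
        rw [MulAut.mul_apply, MulAut.mul_apply, MulAut.conj_apply, MulAut.conj_apply, map_mul, map_mul,
          map_inv, fld_w]
      have hwD : ∀ a b : Fˣ, D a b * toGL (w : SL2) = toGL w * D b a := by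
        intro a b
        apply Units.ext
        rw [Units.val_mul, Units.val_mul, D_val, D_val, toGL_val]
        change _ * !![0, 1; -1, 0] = !![0, 1; -1, 0] * _
        ext i j
        fin_cases i <;> fin_cases j <;> simp [Matrix.mul_apply, Fin.sum_univ_two]
      have hww : cj (toGL (w : SL2)) * cj (toGL w) = 1 := by
        rw [← map_mul]
        apply cj_eq_one_of_scalar (r := -1)
        rw [Units.val_mul, toGL_val, ← Matrix.SpecialLinearGroup.coe_mul, w_sq]
      calc cj (toGL w * D g 1) * fld σ * (cj (toGL w * D g 1) * fld σ)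
          = cj (toGL w) * cj (D g 1) * (fld σ * cj (toGL w)) * (cj (D g 1) * fld σ) := by
            simp only [map_mul, mul_assoc]
        _ = cj (toGL w) * (cj (D g 1) * cj (toGL w)) * (fld σ * cj (D g 1)) * fld σ := by
            rw [hfw]; simp only [mul_assoc]
        _ = (cj (toGL w) * cj (toGL w)) * cj (D 1 g) * cj (D g' 1) * (fld σ * fld σ) := by
            rw [← map_mul, hwD, fld_cj_D, map_one, ← hg', map_mul]; simp only [mul_assoc]
        _ = cj (D (g ^ (k + (q - 1) - 1)) 1) := by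
            rw [hww, one_mul, ← map_mul, ← map_mul, hσ2, map_one, mul_one, D_mul, one_mul, mul_one,
              cj_D]
            congr 2
            have e1 : g ^ (k + (q - 1) - 1) * g = g ^ k := by
              rw [← pow_succ, Nat.sub_add_cancel (by omega), pow_add, ← hgo, pow_orderOf_eq_one, mul_one]
            rw [← hk, ← e1, mul_inv_cancel_right]
    omega
  intro α hα
  obtain ⟨A, σ, rfl⟩ := surj_two p α
  rcases hred A σ hα with ⟨h1, x, hx⟩ | h1
  · refine ⟨x, ?_⟩
    rw [hi σ h1, map_one, mul_one, hx]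
  · exact absurd h1 (hii σ)

end fin

end Cfsg.Agent.H371.OutTwo
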