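import Cfsg.Agent.H371.RedAlt

/-!
# Recognition of `PSL_2(q)`, `q` odd: end of the proof (helper371)
-/

set_option autoImplicit false

namespace Cfsg.Agent.H371.RedTwo

open Subgroup Cfsg.Agent.H375

/-- transport of `Aut` -/
theorem congr_conjNormal {Γ P : Type*} [Group Γ] [Group P] (S : Subgroup Γ) [S.Normal] (e : S ≃* P) (s : S) :
    MulAut.congr e (MulAut.conjNormal (s : Γ)) = MulAut.conj (e s) := by
  apply MulEquiv.ext
  intro y
  obtain ⟨t, rfl⟩ := e.surjective y
  have h1 : MulAut.congr e (MulAut.conjNormal (s : Γ)) (e t) = e (MulAut.conjNormal (s : Γ) t) := by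
    change e (MulAut.conjNormal (s : Γ) (e.symm (e t))) = _
    rw [e.symm_apply_apply]
  rw [h1, MulAut.conj_apply, ← map_inv, ← map_mul, ← map_mul]
  rfl

/-- **Almost simple groups with socle and spectrum `PSL_2(q)`.** -/
theorem top_of_spec {Γ : Type*} [Group Γ] [Finite Γ] (S : Subgroup Γ) [S.Normal]
    (hc : centralizer (S : Set Γ) = ⊥) {F : Type*} [Field F] [Fintype F] {p : ℕ} [hp : Fact p.Prime]
    [CharP F p] (hp2 : p ≠ 2) {q : ℕ} (hFq : Fintype.card F = q) (hq : 4 < q)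
    (e : S ≃* Matrix.ProjectiveSpecialLinearGroup (Fin 2) F)
    (hspec : ∀ x : Γ, orderOf x ∣ p ∨ orderOf x ∣ (q - 1) / 2 ∨ orderOf x ∣ (q + 1) / 2) : S = ⊤ := by
  let Φ : Γ →* MulAut (Matrix.ProjectiveSpecialLinearGroup (Fin 2) F) :=
    (MulAut.congr e).toMonoidHom.comp (MulAut.conjNormal : Γ →* MulAut S)
  have hΦ : Function.Injective Φ :=
    fun a b hab => conjNormal_injective S hc ((MulAut.congr e).injective hab)
  have hΦs : ∀ s : S, Φ (s : Γ) = MulAut.conj (e s) := fun s => congr_conjNormal S e s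
  have key := OutTwo.inner_of_spec (F := F) (p := p) hp2 hFq hq Φ.range (by
    intro y
    exact ⟨(e.symm y : S), by rw [hΦs, e.apply_symm_apply]⟩) (by
    rintro _ ⟨x, rfl⟩
    rw [orderOf_injective Φ hΦ]
    exact hspec x)
  rw [eq_top_iff]
  intro x _
  obtain ⟨y, hy⟩ := key (Φ x) ⟨x, rfl⟩
  have h1 : Φ x = Φ ((e.symm y : S) : Γ) := by rw [hΦs, e.apply_symm_apply, hy]
  rw [hΦ h1]
  exact (e.symm y).2

namespace Hyp
variable {G : Type*} [Group G] [Finite G] {p f n m : ℕ}
variable {K : Subgroup G} [K.Normal] {S : Subgroup (G ⧸ K)} (H : Hyp G p f n m K S)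
include H

/-- the spectrum in terms of `q` -/
theorem spec_q {q : ℕ} (hq : q = p ^ f) (g : G) :
    orderOf g ∣ p ∨ orderOf g ∣ (q - 1) / 2 ∨ orderOf g ∣ (q + 1) / 2 := by
  have hA := H.A.h
  rcases hA with ⟨h1, h2⟩ | ⟨h1, h2⟩
  · have e1 : (q + 1) / 2 = n := by omega
    have e2 : (q - 1) / 2 = m := by omega
    rw [e1, e2]
    rcases H.sp g with h | h | h
    · exact Or.inl h
    · exact Or.inr (Or.inr h)
    · exact Or.inr (Or.inl h)
  · have e1 : (q + 1) / 2 = m := by omega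
    have e2 : (q - 1) / 2 = n := by omega
    rw [e1, e2]
    exact H.sp g

theorem five_le {q : ℕ} (hq : q = p ^ f) : 5 ≤ q := by
  have hA := H.A.h
  have := H.A.hn3
  omega

/-- **Socle `PSL_2(q)`.** -/
theorem iso_of_card {F : Type*} [Field F] [Fintype F] [hp : Fact p.Prime] [CharP F p]
    (hF : Fintype.card F = p ^ f) (e : S ≃* Matrix.ProjectiveSpecialLinearGroup (Fin 2) F) :
    Nonempty (G ≃* Matrix.ProjectiveSpecialLinearGroup (Fin 2) F) := by
  have hnor := H.nor
  have hsol := H.sol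
  have hq5 := H.five_le hF
  set q := Fintype.card F with hq
  have hspec := H.spec_q hF
  have hoddq : q % 2 = 1 := by
    have := H.A.h
    omega
  have hgcd : Nat.gcd 2 (q - 1) = 2 := Nat.gcd_eq_left (by omega)
  have hK : K = ⊥ := by
    refine CoverTwo.eq_bot (F := F) (p := p) hq.symm (by omega) (by rw [hgcd]; exact hspec) K H.sol
      (H.not_dvd_K hp.out (Or.inl rfl)) (S.subtype.comp e.symm.toMonoidHom) ?_
    exact fun a b hab => e.symm.injective (S.subtype_injective hab)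
  have hS : S = ⊤ := by
    refine top_of_spec S H.cen (F := F) (p := p) H.A.hp2 hq.symm (by omega) e ?_
    intro x
    obtain ⟨g, rfl⟩ := QuotientGroup.mk'_surjective K x
    have h1 := orderOf_map_dvd (QuotientGroup.mk' K) g
    rcases hspec g with h | h | h
    · exact Or.inl (h1.trans h)
    · exact Or.inr (Or.inl (h1.trans h))
    · exact Or.inr (Or.inr (h1.trans h))
  have e1 : G ≃* G ⧸ K := MulEquiv.ofBijective (QuotientGroup.mk' K)
    ⟨(injective_iff_map_eq_one _).2 (fun x hx => by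
      have h1 : x ∈ K := (QuotientGroup.eq_one_iff x).1 hx
      rw [hK] at h1
      exact Subgroup.mem_bot.1 h1), QuotientGroup.mk'_surjective K⟩
  have e2 : S ≃* G ⧸ K := (MulEquiv.subgroupCongr hS).trans Subgroup.topEquiv
  exact ⟨e1.trans (e2.symm.trans e)⟩

/-- `A_7` or `PSL_2(q')`, `q'` odd -/
def _root_.Cfsg.Agent.H371.RedTwo.AltL2 (S : Type*) [Group S] : Prop :=
  Nonempty (S ≃* alternatingGroup (Fin 7)) ∨
    (∃ (F : Type) (_ : Field F) (_ : Fintype F), Odd (Fintype.card F) ∧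
      Nonempty (S ≃* Matrix.ProjectiveSpecialLinearGroup (Fin 2) F))

theorem iso_of_altL2 (h9 : p ^ f ≠ 9) {F : Type*} [Field F] [Fintype F] [hp : Fact p.Prime] [CharP F p]
    (hF : Fintype.card F = p ^ f) (hS : AltL2 S) :
    Nonempty (G ≃* Matrix.ProjectiveSpecialLinearGroup (Fin 2) F) := by
  rcases hS with ⟨⟨e⟩⟩ | ⟨F', _, _, hodd, ⟨e⟩⟩
  · exact (H.not_alt_seven e).elim
  · have h1 := H.eq_of_psl h9 hodd e
    obtain ⟨e'⟩ := Cfsg.Agent.H363.PslCard.psl_of_card (n := Fin 2) (F := F') (F' := F) (by rw [← h1, hF])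
    exact H.iso_of_card hF (e.trans e')

end Hyp

end Cfsg.Agent.H371.RedTwo
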