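import Cfsg.Agent.H371.RedTwo
import Cfsg.Agent.StandardComponent.AltAut

/-!
# Recognition of `PSL_2(q)`, `q` odd: the socle `A_7` (helper371)
-/

set_option autoImplicit false

namespace Cfsg.Agent.H371.RedTwo

open Subgroup Cfsg.Agent.H375

/-- a permutation of type `3 + 2 + 2` -/
def sixP : Equiv.Perm (Fin 7) := Equiv.swap 0 1 * Equiv.swap 1 2 * Equiv.swap 3 4 * Equiv.swap 5 6

/-- an element of order 6 in `A_7` -/
def six : alternatingGroup (Fin 7) := ⟨sixP, by
  rw [Equiv.Perm.mem_alternatingGroup, sixP, map_mul, map_mul, map_mul, Equiv.Perm.sign_swap (by decide),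
    Equiv.Perm.sign_swap (by decide), Equiv.Perm.sign_swap (by decide), Equiv.Perm.sign_swap (by decide)]
  decide⟩

set_option maxRecDepth 20000 in
theorem orderOf_six : orderOf six = 6 := by
  rw [← Subgroup.orderOf_coe]
  change orderOf sixP = 6
  have h2 : sixP ^ 2 ≠ 1 := by rw [pow_two]; decide
  have h3 : sixP ^ 3 ≠ 1 := by rw [pow_succ, pow_two]; decide
  have h6 : sixP ^ 6 = 1 := by
    have : sixP ^ 6 = (sixP * sixP * sixP) * (sixP * sixP * sixP) := by simp only [pow_succ, pow_zero, one_mul, mul_assoc]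
    rw [this]; decide
  have h := orderOf_dvd_of_pow_eq_one h6
  have h' : orderOf sixP ∈ Nat.divisors 6 := Nat.mem_divisors.2 ⟨h, by norm_num⟩
  have h4 : Nat.divisors 6 = {1, 2, 3, 6} := by decide
  rw [h4] at h'
  simp only [Finset.mem_insert, Finset.mem_singleton] at h'
  rcases h' with h' | h' | h' | h'
  · rw [orderOf_eq_one_iff] at h'
    exact absurd (by rw [h', one_pow]) h2
  · exact absurd (h' ▸ pow_orderOf_eq_one sixP) h2
  · exact absurd (h' ▸ pow_orderOf_eq_one sixP) h3
  · exact h'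

namespace Hyp
variable {G : Type*} [Group G] [Finite G] {p f n m : ℕ}
variable {K : Subgroup G} [K.Normal] {S : Subgroup (G ⧸ K)} (H : Hyp G p f n m K S)
include H

/-- **The socle is not `A_7`.** -/
theorem not_alt_seven (e : S ≃* alternatingGroup (Fin 7)) : False := by
  have hnor := H.nor
  have hSp : Sp S p n m := sp_sub H.sp K S
  -- `3 ∣ m`
  have h3m : 3 ∣ m := by
    have h1 : orderOf (e.symm six) = 6 := by rw [MulEquiv.orderOf_eq, orderOf_six]
    have h2 := hSp.dvd_m_of_even H.A (g := e.symm six) (by rw [h1]; norm_num)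
    rw [h1] at h2
    exact (by norm_num : 3 ∣ 6).trans h2
  have hcard : 2 * Nat.card S = 5040 := by
    rw [Nat.card_congr e.toEquiv, two_mul_nat_card_alternatingGroup, Nat.card_eq_fintype_card,
      Fintype.card_perm, Fintype.card_fin]
    rfl
  have hp : p = 5 ∨ p = 7 := by
    have h1 : p ∣ 2 * Nat.card S := (H.dvd_S H.A.hp (Or.inl rfl)).mul_left 2
    rw [hcard] at h1
    have h2 : (5040 : ℕ) = 2 ^ 4 * (3 ^ 2 * (5 * 7)) := by norm_num
    rw [h2] at h1
    have hpp := H.A.hp
    rcases hpp.dvd_mul.1 h1 with h3 | h3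
    · exact absurd ((Nat.prime_dvd_prime_iff_eq hpp Nat.prime_two).1 (hpp.dvd_of_dvd_pow h3)) H.A.hp2
    rcases hpp.dvd_mul.1 h3 with h3 | h3
    · have h4 := (Nat.prime_dvd_prime_iff_eq hpp Nat.prime_three).1 (hpp.dvd_of_dvd_pow h3)
      rw [← h4] at h3m
      exact absurd h3m H.A.not_p_dvd_m
    rcases hpp.dvd_mul.1 h3 with h3 | h3
    · exact Or.inl ((Nat.prime_dvd_prime_iff_eq hpp (by norm_num)).1 h3)
    · exact Or.inr ((Nat.prime_dvd_prime_iff_eq hpp (by norm_num)).1 h3)
  -- the automorphism of order `n`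
  obtain ⟨x, hx⟩ := H.exists_bar
  obtain ⟨ψ, hψ⟩ := Cfsg.Agent.StandardComponent.AltAut.exists_autHom 7 le_rfl
  have hψi : Function.Injective ψ := by
    rw [injective_iff_map_eq_one]
    intro α hα
    apply MulEquiv.ext
    intro y
    apply Subtype.ext
    rw [hψ α y, hα, one_mul, inv_one, mul_one]
    rfl
  have hinj : Function.Injective (ψ.comp ((MulAut.congr e).toMonoidHom.comp
      (MulAut.conjNormal : G ⧸ K →* MulAut S))) :=
    fun a b hab => conjNormal_injective S H.cen ((MulAut.congr e).injective (hψi hab))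
  have hn : n ∣ 5040 := by
    have h1 := orderOf_injective _ hinj x
    have h2 := orderOf_dvd_card (x := (ψ.comp ((MulAut.congr e).toMonoidHom.comp
      (MulAut.conjNormal : G ⧸ K →* MulAut S))) x)
    rw [h1, hx, Fintype.card_perm, Fintype.card_fin] at h2
    exact h2
  have hn2 : n.Coprime (2 ^ 4) := Nat.Coprime.pow_right 4 ((Nat.coprime_comm.1
    ((Nat.Prime.coprime_iff_not_dvd Nat.prime_two).2 H.A.not_two_dvd_n)))
  have hn3 : n.Coprime (3 ^ 2) := Nat.Coprime.pow_right 2 (Nat.Coprime.coprime_dvd_right h3m H.A.cop_nm)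
  have h35 : n ∣ 35 := by
    have h2 : (5040 : ℕ) = 2 ^ 4 * (3 ^ 2 * 35) := by norm_num
    rw [h2] at hn
    exact hn3.dvd_of_dvd_mul_left (hn2.dvd_of_dvd_mul_left hn)
  have hn35 : n = 5 ∨ n = 7 ∨ n = 35 := by
    have h1 : n ∈ Nat.divisors 35 := Nat.mem_divisors.2 ⟨h35, by norm_num⟩
    have h2 : Nat.divisors 35 = {1, 5, 7, 35} := by decide
    rw [h2] at h1
    simp only [Finset.mem_insert, Finset.mem_singleton] at h1
    have := H.A.hn3
    omega
  have hcop := H.A.not_p_dvd_n
  have hdp := H.A.dvd_pow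
  have key : p = n + 2 ∨ n = p + 2 := by
    rcases hp with rfl | rfl <;> rcases hn35 with rfl | rfl | rfl <;> first
      | exact Or.inl rfl
      | exact Or.inr rfl
      | exact absurd (by norm_num) hcop
  have hA := H.A.h
  rcases H.A.pm_two key with h | h
  · rw [h] at hA hdp
    rcases hp with rfl | rfl
    · omega
    · omega
  · rw [h] at hA hdp
    rcases hp with rfl | rfl
    · omega
    · omega

end Hyp

end Cfsg.Agent.H371.RedTwo
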