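import Cfsg.Agent.H371.ArNum
import Cfsg.Agent.H371.OutPow
import Cfsg.Agent.H371.CoverTwo
import Cfsg.Agent.H375.Reduce
import Cfsg.Agent.H390.PslSpec
import Cfsg.Agent.H363.PslCard
import Cfsg.Agent.S0243

/-!
# Recognition of `PSL_2(q)`, `q` odd: the socle `PSL_2(q')`, `q'` odd (helper371)
-/

set_option autoImplicit false

namespace Cfsg.Agent.H371.RedTwo

open Subgroup Cfsg.Agent.H375

/-- the action on a normal subgroup is faithful -/
theorem conjNormal_injective {Γ : Type*} [Group Γ] (S : Subgroup Γ) [S.Normal]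
    (hc : centralizer (S : Set Γ) = ⊥) : Function.Injective (MulAut.conjNormal : Γ →* MulAut S) := by
  rw [injective_iff_map_eq_one]
  intro x hx
  have : x ∈ centralizer (S : Set Γ) := by
    rw [mem_centralizer_iff]
    intro s hs
    have h1 := congrArg (fun α : MulAut S => ((α ⟨s, hs⟩ : S) : Γ)) hx
    simp only [MulAut.conjNormal_apply, MulAut.one_apply] at h1
    exact (mul_inv_eq_iff_eq_mul.1 h1).symm
  rw [hc] at this
  exact Subgroup.mem_bot.1 this

/-- order of `PSL_2(q)`, `q` odd -/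
theorem card_psl {F : Type*} [Field F] [Fintype F] (hodd : Fintype.card F % 2 = 1) :
    2 * Nat.card (Matrix.ProjectiveSpecialLinearGroup (Fin 2) F) =
      Fintype.card F * ((Fintype.card F + 1) * (Fintype.card F - 1)) := by
  have h := S0243.result (F := F) rfl 2 le_rfl
  set q := Fintype.card F with hq
  have hq1 : 1 < q := Fintype.one_lt_card
  have hg : Nat.gcd 2 (q - 1) = 2 := Nat.gcd_eq_left (by omega)
  rw [hg, Fin.prod_univ_two] at h
  obtain ⟨t, ht⟩ : ∃ t, q = t + 1 := ⟨q - 1, by omega⟩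
  rw [ht, Nat.add_sub_cancel] at h ⊢
  have e1 : (t + 1) ^ 2 - (t + 1) ^ ((0 : Fin 2) : ℕ) = t * (t + 2) := by
    have : ((0 : Fin 2) : ℕ) = 0 := rfl
    rw [this, pow_zero]
    have : (t + 1) ^ 2 = t * (t + 2) + 1 := by ring
    omega
  have e2 : (t + 1) ^ 2 - (t + 1) ^ ((1 : Fin 2) : ℕ) = (t + 1) * t := by
    have : ((1 : Fin 2) : ℕ) = 1 := rfl
    rw [this, pow_one]
    have : (t + 1) ^ 2 = (t + 1) * t + (t + 1) := by ring
    omega
  rw [e1, e2] at h
  have ht0 : 0 < t := by omega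
  have h2 : t * (2 * Nat.card (Matrix.ProjectiveSpecialLinearGroup (Fin 2) F)) =
      t * ((t + 1) * ((t + 1 + 1) * t)) := by
    rw [← mul_assoc, mul_comm t 2, mul_assoc, h]
    ring
  exact Nat.eq_of_mul_eq_mul_left ht0 h2

/-- the arithmetic of an odd prime power `q ≥ 5` -/
theorem exists_ar {s g q : ℕ} (hs : s.Prime) (hg0 : g ≠ 0) (hg : q = s ^ g) (hodd : q % 2 = 1) (hq : 5 ≤ q) :
    ∃ n' m' : ℕ, Ar s g n' m' ∧
      ((n' = (q + 1) / 2 ∧ m' = (q - 1) / 2) ∨ (n' = (q - 1) / 2 ∧ m' = (q + 1) / 2)) := by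
  have hs2 : s ≠ 2 := by
    rintro rfl
    have : 2 ∣ q := by rw [hg]; exact dvd_pow_self 2 hg0
    omega
  obtain ⟨t, ht⟩ : ∃ t, q = 2 * t + 1 := ⟨q / 2, by omega⟩
  have h1 : (q + 1) / 2 = t + 1 := by omega
  have h2 : (q - 1) / 2 = t := by omega
  rw [h1, h2]
  have hg' : s ^ g = 2 * t + 1 := by rw [← hg, ht]
  have ht2 : 2 ≤ t := by omega
  rcases Nat.even_or_odd t with hev | hev
  · refine ⟨t + 1, t, ⟨hs, hs2, hg0, hev.add_one, hev, by omega, by omega, Or.inl ⟨?_, ?_⟩⟩, Or.inl ⟨rfl, rfl⟩⟩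
    · rw [hg']; omega
    · rw [hg']
  · have h3 : 3 ≤ t := by
      rw [Nat.odd_iff] at hev
      omega
    refine ⟨t, t + 1, ⟨hs, hs2, hg0, hev, hev.add_one, h3, by omega, Or.inr ⟨?_, ?_⟩⟩, Or.inr ⟨rfl, rfl⟩⟩
    · rw [hg']
    · rw [hg']; omega

section

variable {G : Type*} [Group G] [Finite G] {p f n m : ℕ}

omit [Finite G] in
/-- Sp for subgroups of quotients -/
theorem sp_sub (h : Sp G p n m) (K : Subgroup G) [K.Normal] (S : Subgroup (G ⧸ K)) : Sp S p n m :=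
  (h.of_surj (QuotientGroup.mk' K) (QuotientGroup.mk'_surjective K)).map S.subtype S.subtype_injective

/-- primes of `p` and `n` -/
theorem no_two_mul {H : Type*} [Group H] (A : Ar p f n m) (h : Sp H p n m) {r : ℕ} (hr : r.Prime)
    (hrpn : r = p ∨ r ∣ n) (g : H) : orderOf g ≠ 2 * r := by
  intro hg
  have h1 := h.dvd_m_of_even A (Dvd.intro _ hg.symm)
  have h2 : r ∣ m := (Dvd.intro_left _ hg.symm).trans h1
  rcases hrpn with rfl | h3
  · exact A.not_p_dvd_m h2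
  · exact hr.one_lt.ne' (Nat.eq_one_of_dvd_coprimes A.cop_nm h3 h2)

theorem ne_two {r : ℕ} (A : Ar p f n m) (hrpn : r = p ∨ r ∣ n) : r ≠ 2 := by
  rintro rfl
  rcases hrpn with h | h
  · exact A.hp2 h.symm
  · exact A.not_two_dvd_n h

/-- the hypotheses on `S ≤ G / K` -/
structure Hyp (G : Type*) [Group G] [Finite G] (p f n m : ℕ) (K : Subgroup G) [K.Normal]
    (S : Subgroup (G ⧸ K)) : Prop where
  A : Ar p f n m
  sp : Sp G p n m
  hgp : ∃ g : G, orderOf g = p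
  hgn : ∃ g : G, orderOf g = n
  sol : Group.IsSolvable K
  nor : S.Normal
  sim : IsSimpleGroup S
  na : ¬ IsMulCommutative S
  cen : centralizer (S : Set (G ⧸ K)) = ⊥
  two : 2 ∣ Nat.card S
  coc : ∀ r : ℕ, r.Prime → (r = p ∨ r ∣ n) → r ∣ Nat.card K → ¬ 2 ∣ Nat.card K
  inv : ∀ r : ℕ, r.Prime → r ≠ 2 → ¬ r ∣ Nat.card S → ∀ x : MulAut S, x ^ r = 1 →
    ∃ g : S, orderOf g = 2 ∧ x g = g

namespace Hyp
variable {K : Subgroup G} [K.Normal] {S : Subgroup (G ⧸ K)} (H : Hyp G p f n m K S)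
include H

theorem not_dvd_K {r : ℕ} (hr : r.Prime) (hrpn : r = p ∨ r ∣ n) : ¬ r ∣ Nat.card K := by
  intro hd
  have := H.nor
  exact Reduce.not_dvd_card hr (ne_two H.A hrpn) (no_two_mul H.A H.sp hr hrpn) K H.sol
    (H.coc r hr hrpn hd) S H.sim H.na H.two hd

theorem exists_orderOf_r {r : ℕ} (hrpn : r = p ∨ r ∣ n) : ∃ g : G, orderOf g = r := by
  rcases hrpn with rfl | ⟨c, hc⟩
  · exact H.hgp
  · obtain ⟨g, hg⟩ := H.hgn
    refine ⟨g ^ c, ?_⟩
    have hc0 : c ≠ 0 := by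
      rintro rfl
      have := H.A.hn3
      omega
    rw [orderOf_pow_of_dvd hc0 (by rw [hg, hc]; exact Dvd.intro_left _ rfl), hg, hc,
      Nat.mul_div_cancel _ (Nat.pos_of_ne_zero hc0)]

theorem dvd_S {r : ℕ} (hr : r.Prime) (hrpn : r = p ∨ r ∣ n) : r ∣ Nat.card S := by
  by_contra hrS
  have := H.nor
  obtain ⟨g, hg⟩ := H.exists_orderOf_r hrpn
  have hrK := H.not_dvd_K hr hrpn
  have h1 : orderOf (QuotientGroup.mk' K g) = r := by
    rw [Reduce.orderOf_mk K g (by rw [hg]; exact (Nat.Prime.coprime_iff_not_dvd hr).2 hrK), hg]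
  set x := QuotientGroup.mk' K g with hx
  obtain ⟨t, ht, htx⟩ := H.inv r hr (ne_two H.A hrpn) hrS (MulAut.conjNormal x) (by
    rw [← map_pow, ← h1, pow_orderOf_eq_one, map_one])
  have h2 : Commute x (t : G ⧸ K) := by
    have := congrArg Subtype.val htx
    rw [MulAut.conjNormal_apply] at this
    exact mul_inv_eq_iff_eq_mul.1 this
  have h3 : Sp (G ⧸ K) p n m := H.sp.of_surj (QuotientGroup.mk' K) (QuotientGroup.mk'_surjective K)
  refine no_two_mul H.A h3 hr hrpn ((t : G ⧸ K) * x) ?_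
  rw [h2.symm.orderOf_mul_eq_mul_orderOf_of_coprime, h1, Subgroup.orderOf_coe, ht]
  rw [h1, Subgroup.orderOf_coe, ht]
  exact (Nat.coprime_primes Nat.prime_two hr).2 (ne_two H.A hrpn).symm

/-- the element of order `n` -/
theorem exists_bar : ∃ x : G ⧸ K, orderOf x = n := by
  obtain ⟨g, hg⟩ := H.hgn
  refine ⟨QuotientGroup.mk' K g, ?_⟩
  rw [Reduce.orderOf_mk K g ?_, hg]
  rw [hg]
  apply Nat.Coprime.symm
  apply Nat.Coprime.symm
  rw [Nat.coprime_iff_gcd_eq_one]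
  by_contra hne
  obtain ⟨r, hr, hrd⟩ := Nat.exists_prime_and_dvd hne
  exact H.not_dvd_K hr (Or.inr (hrd.trans (Nat.gcd_dvd_left _ _))) (hrd.trans (Nat.gcd_dvd_right _ _))

/-- the automorphism of the socle -/
theorem exists_jk {F : Type*} [Field F] [Fintype F] {s g : ℕ} (hs : s.Prime) (hchar : CharP F s)
    (hg0 : g ≠ 0) (hg : Fintype.card F = s ^ g)
    (e : S ≃* Matrix.ProjectiveSpecialLinearGroup (Fin 2) F) :
    ∃ j k : ℕ, n = j * k ∧ j ∣ g ∧ ∃ y : Matrix.ProjectiveSpecialLinearGroup (Fin 2) F, orderOf y = k := by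
  have hnor := H.nor
  have : Fact s.Prime := ⟨hs⟩
  obtain ⟨x, hx⟩ := H.exists_bar
  have hinj : Function.Injective ((MulAut.congr e).toMonoidHom.comp (MulAut.conjNormal : G ⧸ K →* MulAut S)) :=
    fun a b hab => conjNormal_injective S H.cen ((MulAut.congr e).injective hab)
  have hord : orderOf (((MulAut.congr e).toMonoidHom.comp (MulAut.conjNormal : G ⧸ K →* MulAut S)) x) = n := by
    rw [orderOf_injective _ hinj, hx]
  obtain ⟨j, k, hjk, hjg, y, hy⟩ := OutTwo.exists_inner_pow (F := F) (p := s) hg0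
    hg (((MulAut.congr e).toMonoidHom.comp (MulAut.conjNormal : G ⧸ K →* MulAut S)) x)
    (by rw [hord]; exact H.A.hn)
  exact ⟨j, k, by rw [← hjk, hord], hjg, y, hy⟩

/-- prime divisors of the order -/
theorem prime_cases {F : Type*} [Field F] [Fintype F] {s g : ℕ} (hs : s.Prime)
    (hg : Fintype.card F = s ^ g) (hodd : Fintype.card F % 2 = 1)
    (e : S ≃* Matrix.ProjectiveSpecialLinearGroup (Fin 2) F) {r : ℕ} (hr : r.Prime) (hrpn : r = p ∨ r ∣ n) :
    r = s ∨ r ∣ (Fintype.card F + 1) / 2 ∨ r ∣ (Fintype.card F - 1) / 2 := by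
  have hr2 := ne_two H.A hrpn
  have hrS := H.dvd_S hr hrpn
  have hcard := card_psl (F := F) hodd
  rw [← Nat.card_congr e.toEquiv] at hcard
  have h1 : r ∣ Fintype.card F * ((Fintype.card F + 1) * (Fintype.card F - 1)) := by
    rw [← hcard]; exact hrS.mul_left 2
  have h2 : ∀ x : ℕ, 2 ∣ x → r ∣ x → r ∣ x / 2 := by
    intro x hx hrx
    obtain ⟨y, rfl⟩ := hx
    rw [Nat.mul_div_cancel_left _ (by norm_num)]
    exact (hr.dvd_mul.1 hrx).resolve_left (fun h => hr2 ((Nat.prime_dvd_prime_iff_eq hr Nat.prime_two).1 h))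
  rcases hr.dvd_mul.1 h1 with h3 | h3
  · left
    rw [hg] at h3
    exact (Nat.prime_dvd_prime_iff_eq hr hs).1 (hr.dvd_of_dvd_pow h3)
  · right
    rcases hr.dvd_mul.1 h3 with h4 | h4
    · left; exact h2 _ (by omega) h4
    · right; exact h2 _ (by omega) h4

/-- **Socle `PSL_2(q')`, `q'` odd.** -/
theorem eq_of_psl (h9 : p ^ f ≠ 9) {F : Type*} [Field F] [Fintype F] (hodd : Odd (Fintype.card F))
    (e : S ≃* Matrix.ProjectiveSpecialLinearGroup (Fin 2) F) : p ^ f = Fintype.card F := by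
  have hnor := H.nor
  obtain ⟨s, hchar⟩ := CharP.exists F
  obtain ⟨g, hs, hg⟩ := FiniteField.card F s
  have : Fact s.Prime := ⟨hs⟩
  have hoddq : Fintype.card F % 2 = 1 := Nat.odd_iff.1 hodd
  have hq1 : 1 < Fintype.card F := Fintype.one_lt_card
  have hdiv := fun {r : ℕ} (hr : r.Prime) (hrpn : r = p ∨ r ∣ n) =>
    H.prime_cases hs hg hoddq e hr hrpn
  -- `q ≠ 3`
  have hq3 : Fintype.card F ≠ 3 := by
    intro h3
    obtain ⟨r, hr, hrn⟩ := Nat.exists_prime_and_dvd (n := n) (by have := H.A.hn3; omega)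
    have hrp : r ≠ p := by
      rintro rfl
      exact H.A.not_p_dvd_n hrn
    rw [h3] at hdiv
    have key : ∀ r : ℕ, r.Prime → (r = p ∨ r ∣ n) → r = s := by
      intro r hr hrpn
      rcases hdiv hr hrpn with h | h | h
      · exact h
      · exact absurd ((Nat.prime_dvd_prime_iff_eq hr Nat.prime_two).1 h) (ne_two H.A hrpn)
      · exact absurd (Nat.dvd_one.1 h) hr.one_lt.ne'
    apply hrp
    rw [key r hr (Or.inr hrn), key p H.A.hp (Or.inl rfl)]
  have hq5 : 5 ≤ Fintype.card F := by omega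
  obtain ⟨n', m', B, hnm⟩ := exists_ar hs g.ne_zero hg hoddq hq5
  -- spectrum
  have hd2 : H390.PslSpec.dd (Fintype.card F) = 2 := H390.PslSpec.dd_odd hodd
  have hSp : Sp S p n m := sp_sub H.sp K S
  have hsub : (Fintype.card F - 1) / 2 ∣ p ∨ (Fintype.card F - 1) / 2 ∣ n ∨ (Fintype.card F - 1) / 2 ∣ m := by
    obtain ⟨y, hy⟩ := H390.PslSpec.exists_sub (F := F) (p := s) (by omega)
    rw [hd2] at hy
    have := hSp (e.symm y)
    rwa [MulEquiv.orderOf_eq, hy] at this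
  have hadd : (Fintype.card F + 1) / 2 ∣ p ∨ (Fintype.card F + 1) / 2 ∣ n ∨ (Fintype.card F + 1) / 2 ∣ m := by
    obtain ⟨y, hy⟩ := H390.PslSpec.exists_add (F := F) (p := s) (by omega)
    rw [hd2] at hy
    have := hSp (e.symm y)
    rwa [MulEquiv.orderOf_eq, hy] at this
  obtain ⟨j, k, hjk, hjg, y, hy⟩ := H.exists_jk hs hchar g.ne_zero hg e
  have hk : k ∣ s ∨ k ∣ (Fintype.card F - 1) / 2 ∨ k ∣ (Fintype.card F + 1) / 2 := by
    obtain ⟨y, rfl⟩ := H390.PslSpec.pr_surjective y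
    have := H390.PslSpec.order_dvd (p := s) y
    rwa [hd2, hy] at this
  have hpS := hdiv H.A.hp (Or.inl rfl)
  have hrS : ∀ r : ℕ, r.Prime → r ∣ n → r = s ∨ r ∣ (Fintype.card F + 1) / 2 ∨
      r ∣ (Fintype.card F - 1) / 2 := fun r hr hrn => hdiv hr (Or.inr hrn)
  rw [hg]
  rcases hnm with ⟨rfl, rfl⟩ | ⟨rfl, rfl⟩
  · exact Ar.eq_of_psl H.A B hadd hsub hpS hrS hjk hjg (by
      rcases hk with h | h | h
      · exact Or.inl h
      · exact Or.inr (Or.inr h)
      · exact Or.inr (Or.inl h)) h9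
  · exact Ar.eq_of_psl H.A B hsub hadd (by
      rcases hpS with h | h | h
      · exact Or.inl h
      · exact Or.inr (Or.inr h)
      · exact Or.inr (Or.inl h)) (fun r h1 h2 => by
      rcases hrS r h1 h2 with h | h | h
      · exact Or.inl h
      · exact Or.inr (Or.inr h)
      · exact Or.inr (Or.inl h)) hjk hjg hk h9

end Hyp

end

end Cfsg.Agent.H371.RedTwo
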